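import Cfsg.Agent.Lib.Small.InvolutionSearch
import Cfsg.Agent.Lib.Char.RootUnityValues

/-!
# Values of characters of simple groups at involutions
-/

set_option autoImplicit false

namespace Cfsg.Agent.Char.SmallOrderGraph

open Cfsg Cfsg.Agent.Char Cfsg.Agent.Small.Order459648
open scoped ComplexConjugate

universe u

variable {G : Type u} [Group G]

theorem invol_perfect [Finite G] (hperf : commutator G = ⊤) {χ : G → ℂ} (h : IsCharacter G χ)
    {t : G} (ht : t ^ 2 = 1) :
    ∃ (z : ℤ) (d : ℕ), χ t = z ∧ χ 1 = d ∧ (4 : ℤ) ∣ (d : ℤ) - z ∧ z.natAbs ≤ d := by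
  classical
  obtain ⟨n, ρ, rfl⟩ := h
  obtain ⟨μ, hμ, htr, hdet⟩ := exists_eigenvalues ρ t
  have hi : ∀ i, ∃ b : ℕ, b ≤ 1 ∧ μ i = (-1 : ℂ) ^ b ∧ μ i = 1 - 2 * (b : ℂ) := fun i => by
    have h2 : μ i ^ 2 = 1 := by
      obtain ⟨k, hk⟩ := orderOf_dvd_of_pow_eq_one ht
      rw [hk, pow_mul, hμ i, one_pow]
    rcases sq_eq_one_iff.1 h2 with e | e
    · exact ⟨0, zero_le_one, by simp [e], by simp [e]⟩
    · exact ⟨1, le_rfl, by simp [e], by simp [e]; norm_num⟩
  choose b hb hb1 hb2 using hi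
  set B := ∑ i, b i with hB
  have hBle : B ≤ Module.finrank ℂ (Fin n → ℂ) := by
    rw [hB]
    refine (Finset.sum_le_sum fun i _ => hb i).trans ?_
    simp
  have hz : ρ.character t = ((((Module.finrank ℂ (Fin n → ℂ) : ℕ) : ℤ) - 2 * (B : ℤ) : ℤ) : ℂ) := by
    have h1 : ρ.character t = ∑ i, μ i := by simpa using htr 1
    rw [h1, Finset.sum_congr rfl fun i _ => hb2 i, Finset.sum_sub_distrib, ← Finset.mul_sum]
    simp [hB]
  have hev : Even B := by
    have h1 : LinearMap.det (ρ t) = 1 := by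
      let f : G →* ℂ := LinearMap.det.comp ρ
      have h1 : commutator G ≤ f.toHomUnits.ker := Abelianization.commutator_subset_ker _
      rw [hperf] at h1
      exact congrArg Units.val (MonoidHom.mem_ker.1 (h1 (Subgroup.mem_top t)))
    have h2 := hdet 1
    simp only [pow_one] at h2
    rw [h1, Finset.prod_congr rfl fun i _ => hb1 i, Finset.prod_pow_eq_pow_sum, ← hB] at h2
    exact neg_one_pow_eq_one_iff_even (by norm_num : (-1 : ℂ) ≠ 1) |>.1 h2.symm
  refine ⟨_, Module.finrank ℂ (Fin n → ℂ), hz, by rw [Representation.char_one], ?_, ?_⟩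
  · obtain ⟨r, hr⟩ := hev
    exact ⟨r, by rw [hr]; push_cast; ring⟩
  · omega

variable [Fintype G] [IsSimpleGroup G]

/-- An element other than the identity is never scalar in a non-trivial representation. -/
theorem norm_ne_deg (hna : ¬ IsMulCommutative G) {χ : IrrCharacter G} (hne : χ ≠ oneChar) {t : G}
    (ht : t ≠ 1) : ‖(χ : G → ℂ) t‖ ≠ (charDegree (χ : G → ℂ) : ℝ) := by
  intro h
  have h1 := one_lt_degree hna hne
  have h2 := RootValues.mem_center_of_norm χ (fun g hg => faithful hne (by omega) g hg) h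
  rw [Small.SmallOrders.center_eq_bot hna, Subgroup.mem_bot] at h2
  exact ht h2

/-- The value of an irreducible character at an involution. -/
theorem invol_value (hna : ¬ IsMulCommutative G) {χ : IrrCharacter G} (hne : χ ≠ oneChar) {t : G}
    (ht : orderOf t = 2) :
    ∃ z : ℤ, (χ : G → ℂ) t = z ∧ (4 : ℤ) ∣ (charDegree (χ : G → ℂ) : ℤ) - z ∧
      z.natAbs < charDegree (χ : G → ℂ) := by
  obtain ⟨z, d, hz, hd, h4, hle⟩ := invol_perfect (perfect hna) (irr_isCharacter χ.2)
    (show t ^ 2 = 1 by rw [← ht, pow_orderOf_eq_one])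
  have hd' : d = charDegree (χ : G → ℂ) := by
    exact_mod_cast hd.symm.trans (char_one_eq_deg (irr_isCharacter χ.2))
  subst hd'
  refine ⟨z, hz, h4, lt_of_le_of_ne hle fun h => ?_⟩
  refine norm_ne_deg hna hne (t := t) (fun e => by rw [e, orderOf_one] at ht; omega) ?_
  rw [hz, Complex.norm_intCast, ← h, Nat.cast_natAbs, Int.cast_abs]

end Cfsg.Agent.Char.SmallOrderGraph
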