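import Cfsg.Agent.Lib.Char.SmallOrderGraph.Block
import Cfsg.Agent.Lib.Char.Congr
import Cfsg.Agent.Lib.Small.OrderSieve
import Cfsg.Agent.Lib.Small.Order5040

/-!
# No simple group of order 1344

A character of degree 3 would be rational on the 2-elements, with norm 9/8 on a Sylow 2-subgroup.
-/

set_option autoImplicit false

namespace Cfsg.Agent.Char.SmallOrderGraph

open Cfsg Cfsg.Agent.Char Cfsg.Agent.Lead.BlockDeg Cfsg.Agent.Small.Order459648
open Cfsg.Agent.Small
open scoped ComplexConjugate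

universe u

variable {G : Type u} [Group G] [Fintype G]

theorem no_deg_three [IsSimpleGroup G] (hna : ¬ IsMulCommutative G) (hN : Nat.card G = 1344)
    [Fact (Nat.Prime 7)] (P : Sylow 7 G) (hP : Nat.card P = 7)
    (he : (Subgroup.centralizer ((P : Subgroup G) : Set G)).relIndex
      (Subgroup.normalizer ((P : Subgroup G) : Set G)) = 3)
    (hC : Nat.card (Subgroup.centralizer ((P : Subgroup G) : Set G)) = 7)
    (χ : IrrCharacter G) (hne : χ ≠ oneChar) : charDegree (χ : G → ℂ) ≠ 3 := by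
  classical
  intro hd
  obtain ⟨M, X, Y, a, δ, h, -, hdvd⟩ := exists_data P hP he hC
  have hY : ∀ ψ : IrrCharacter G, charDegree (ψ : G → ℂ) = 3 → ψ ∈ Y := by
    intro ψ hψ
    have hX : ψ ∉ X := fun hX => by
      have h1 := h.a_congr ψ hX
      rw [hψ] at h1
      rcases h.a_sign ψ hX with e | e <;> rw [e] at h1 <;> exact absurd h1 (by decide)
    by_contra hY
    have := hdvd ψ hX hY
    rw [hψ] at this
    norm_num at this
  haveI : Fact (Nat.Prime 2) := ⟨Nat.prime_two⟩
  obtain ⟨T⟩ := (inferInstance : Nonempty (Sylow 2 G))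
  have hT : Nat.card (T : Subgroup G) = 2 ^ 6 :=
    SmallOrders.sylow_card_eq (m := 21) (k := 6) (by rw [hN]; rfl) (by norm_num) T
  obtain ⟨M2, hM2⟩ := exists_pModular (p := 2) Nat.prime_two
  have hsq : ∀ w : ↥(T : Subgroup G), w ≠ 1 →
      (χ : G → ℂ) (w : G) * conj ((χ : G → ℂ) (w : G)) = 1 := by
    intro w hw
    obtain ⟨i, hi⟩ := T.isPGroup' w
    obtain ⟨j, -, hj⟩ := (Nat.dvd_prime_pow Nat.prime_two).mp (orderOf_dvd_of_pow_eq_one hi)
    have hj' : orderOf (w : G) = 2 ^ j := by rw [Subgroup.orderOf_coe, hj]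
    have hreg : ¬ 7 ∣ orderOf (w : G) := fun h7 => by
      rw [hj'] at h7
      have := Nat.Prime.dvd_of_dvd_pow (Fact.out : Nat.Prime 7) h7
      norm_num at this
    obtain ⟨z, hz⟩ := int_of_pow_fixed (irr_isCharacter χ.2) (g := (w : G)) fun k hk =>
      h.regY _ (hY _ ((charDegree_galConj χ hk).trans hd)) _ (hY χ hd) (w : G) hreg
    have h2 := char_congr_deg hM2 (irr_isCharacter χ.2) (g := (w : G)) ⟨j, hj'⟩
    rw [hz, char_one_eq_deg (irr_isCharacter χ.2), show deg (χ : G → ℂ) = 3 from hd,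
      show ((z : ℂ) - ((3 : ℕ) : ℂ)) = ((z - 3 : ℤ) : ℂ) by push_cast; ring,
      memLI_intCast_iff hM2] at h2
    have hle := char_norm_le (irr_isCharacter χ.2) (w : G)
    rw [hz, char_one_eq_deg (irr_isCharacter χ.2), show deg (χ : G → ℂ) = 3 from hd,
      Complex.norm_intCast] at hle
    have hle' : |z| ≤ 3 := by
      have h3 : ((|z| : ℤ) : ℝ) ≤ ((3 : ℤ) : ℝ) := by push_cast; simpa using hle
      exact_mod_cast h3
    have hne3 : |z| ≠ 3 := fun e => norm_ne_deg hna hne (χ := χ) (t := (w : G))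
      (fun e1 => hw (Subtype.ext e1)) (by
        rw [hz, Complex.norm_intCast, hd, ← Int.cast_abs, e]; norm_num)
    have hz1 : z = 1 ∨ z = -1 := by
      have h2' : (2 : ℤ) ∣ z - 3 := h2
      rcases abs_cases z with ⟨e, hs⟩ | ⟨e, hs⟩ <;> rw [e] at hne3 hle' <;> omega
    rw [hz, map_intCast]
    rcases hz1 with e | e <;> simp [e]
  obtain ⟨m, hm⟩ := classInner_natCast
    (isCharacter_comp (T : Subgroup G).subtype (irr_isCharacter χ.2))
    (isCharacter_comp (T : Subgroup G).subtype (irr_isCharacter χ.2))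
  simp only [classInner, Function.comp_apply, Subgroup.coe_subtype] at hm
  rw [inv_mul_eq_iff_eq_mul₀ (Nat.cast_ne_zero.mpr Nat.card_pos.ne'), hT,
    ← Finset.add_sum_erase _ _ (Finset.mem_univ (1 : ↥(T : Subgroup G))),
    Finset.sum_congr rfl fun w hw => (show _ = (1 : ℂ) from hsq w (Finset.ne_of_mem_erase hw)),
    OneMemClass.coe_one,
    Finset.sum_const, Finset.card_erase_of_mem (Finset.mem_univ _), Finset.card_univ,
    ← Nat.card_eq_fintype_card, hT, char_one_eq_deg (irr_isCharacter χ.2),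
    show deg (χ : G → ℂ) = 3 from hd, map_natCast] at hm
  have : ((3 * 3 + 63 : ℕ) : ℂ) = ((2 ^ 6 * m : ℕ) : ℂ) := by
    norm_num at hm ⊢
    exact hm
  have := (Nat.cast_injective this : 3 * 3 + 63 = 2 ^ 6 * m)
  omega

theorem pairs_1344 : ∀ n ∈ OrderSieve.adm 7 192, ∀ e < 7,
    e ≠ 1 → 6 % e = 0 → 192 % (n * e) = 0 → OrderSieve.small 1344 n = true ∨
      OrderSearch.checkPair 7 192 n e = true ∨ (n = 64 ∧ e = 3) := by decide +kernel

theorem check_1344 : DegreeSearch.checkWith 1344 7 64 3 (fun d => decide (d ≠ 3)) = true := by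
  decide +kernel

omit [Fintype G] in
theorem card_ne_1344 [Finite G] [IsSimpleGroup G] (hna : ¬ IsMulCommutative G) :
    Nat.card G ≠ 1344 := by
  intro hN
  haveI := Fintype.ofFinite G
  haveI : Fact (Nat.Prime 7) := ⟨by norm_num⟩
  have hG : Nat.card G = 7 * 192 := hN
  obtain ⟨P, e, hP, ⟨hn1, hn2, hn3⟩, he, he1, he2, he3⟩ :=
    sylow_data hG (by norm_num : ¬ 7 ∣ 192) (by norm_num)
  have hele : e ≤ 6 := Nat.le_of_dvd (by norm_num) he1
  have hmem : Nat.card (Sylow 7 G) ∈ OrderSieve.adm 7 192 := by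
    simp only [OrderSieve.adm, List.mem_filter, decide_eq_true_eq]
    exact ⟨DegreeSearch.mem_divs (by norm_num) hn1, hn2, hn3⟩
  rcases pairs_1344 _ hmem e (by omega) he2 (Nat.mod_eq_zero_of_dvd he1)
    (Nat.mod_eq_zero_of_dvd he3) with h | h | ⟨hn, hee⟩
  · have hidx : (Subgroup.normalizer ((P : Subgroup G) : Set G)).index = Nat.card (Sylow 7 G) :=
      (Sylow.card_eq_index_normalizer P).symm
    refine OrderSieve.false_of_small hna (Subgroup.normalizer ((P : Subgroup G) : Set G))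
      (fun e1 => hn3 (by rw [← hidx, e1, Subgroup.index_top])) ?_
    rw [hN, hidx]; exact h
  · exact OrderSearch.false_of_checkPair hna (by norm_num) P hP he he1 he2 hG (by norm_num)
      (by norm_num) rfl h
  subst hee
  have hC := Order5040.card_centralizer P he
  rw [hn, hN] at hC
  exact DegreeSearch.false_of_checkWith hna (by norm_num) P hP he he1 he2 hN hn _
    (fun χ hχ => decide_eq_true (no_deg_three hna hN P hP he (by omega) χ hχ)) check_1344

end Cfsg.Agent.Char.SmallOrderGraph
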