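import Cfsg.Agent.Lib.Char.SmallOrderGraph.NoFifteenTwelve

/-!
# No simple group of order 3360

A rational character of degree 4 or 6 is incompatible with an involution centralising an element of order 7.
-/

set_option autoImplicit false

namespace Cfsg.Agent.Char.SmallOrderGraph

open Cfsg Cfsg.Agent.Char Cfsg.Agent.Lead.BlockDeg Cfsg.Agent.Small.Order459648
open Cfsg.Agent.Small

universe u

variable {G : Type u} [Group G] [Fintype G]

theorem lift_odd : ∀ j < 7, j ≠ 0 → ∃ k < 30, Nat.Coprime k 3360 ∧ k % 7 = j ∧ k % 2 = 1 := by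
  decide +kernel

/-- A rational character of degree 4 or 6 and commuting elements of orders 2 and 7. -/
theorem false_of_rational [IsSimpleGroup G] (hna : ¬ IsMulCommutative G)
    (hN : Nat.card G = 3360) {χ : IrrCharacter G} (hne : χ ≠ oneChar) {d : ℕ}
    (hd : charDegree (χ : G → ℂ) = d) (hd' : d = 4 ∨ d = 6)
    (hfix : ∀ k : ℕ, k.Coprime (Nat.card G) → ∀ g, (χ : G → ℂ) (g ^ k) = (χ : G → ℂ) g)
    {w t : G} (hw : orderOf w = 7) (ht : orderOf t = 2) (hc : Commute t w) : False := by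
  classical
  have hint : ∀ g : G, ∃ z : ℤ, (χ : G → ℂ) g = z := fun g =>
    int_of_pow_fixed (irr_isCharacter χ.2) fun k hk => hfix k hk g
  obtain ⟨z, hz⟩ := hint w
  obtain ⟨u, hu⟩ := hint (t * w)
  have hval : (χ : G → ℂ) 1 = (d : ℂ) := by
    rw [char_one_eq_deg (irr_isCharacter χ.2), show deg (χ : G → ℂ) = d from hd]
  set W := Subgroup.zpowers w
  have hcard : Nat.card W = 7 := by rw [Nat.card_zpowers, hw]
  have hgen : ∀ x : W, x ≠ 1 → ∃ k : ℕ, k.Coprime 3360 ∧ k % 2 = 1 ∧ (x : G) = w ^ k := by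
    intro x hx
    obtain ⟨j, hj⟩ := Subgroup.mem_zpowers_iff.mp x.2
    have hj' : (x : G) = w ^ (j % 7).toNat := by
      rw [← hj, ← zpow_natCast, Int.toNat_of_nonneg (Int.emod_nonneg _ (by norm_num)),
        show (7 : ℤ) = ((orderOf w : ℕ) : ℤ) by rw [hw]; norm_num, zpow_mod_orderOf]
    have hi0 : (j % 7).toNat ≠ 0 := fun e1 => hx (Subtype.ext (by rw [hj', e1, pow_zero]; rfl))
    obtain ⟨k, -, hk, hk7, hk2⟩ := lift_odd _ (by omega) hi0
    exact ⟨k, hk, hk2, by rw [hj', pow_eq_pow_iff_modEq, hw, Nat.ModEq, hk7,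
      Nat.mod_eq_of_lt (show (j % 7).toNat < 7 by omega)]⟩
  -- the sum over `⟨w⟩`
  obtain ⟨n, hn⟩ := classInner_natCast (isCharacter_comp W.subtype (irr_isCharacter χ.2))
    (isCharacter_one (G := W))
  have hsum : ∑ x : W, (χ : G → ℂ) (x : G) = (d : ℂ) + 6 * (z : ℂ) := by
    rw [← Finset.add_sum_erase _ _ (Finset.mem_univ (1 : W)), OneMemClass.coe_one, hval,
      Finset.sum_congr rfl (g := fun _ => (z : ℂ)) fun x hx => by
        obtain ⟨k, hk, -, hk'⟩ := hgen x (Finset.ne_of_mem_erase hx)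
        rw [hk', hfix k (by rwa [hN]), hz],
      Finset.sum_const, Finset.card_erase_of_mem (Finset.mem_univ _), Finset.card_univ,
      ← Nat.card_eq_fintype_card, hcard, nsmul_eq_mul]
    norm_num
  simp only [classInner, Function.comp_apply, Subgroup.coe_subtype, map_one, mul_one] at hn
  rw [hsum, hcard, inv_mul_eq_iff_eq_mul₀ (by norm_num)] at hn
  have hn' : (d : ℤ) + 6 * z = 7 * n := by
    have : (((d : ℤ) + 6 * z : ℤ) : ℂ) = ((7 * n : ℤ) : ℂ) := by
      push_cast; simpa using hn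
    exact_mod_cast this
  have hzle : z.natAbs ≤ d := by
    have h1 := char_norm_le (irr_isCharacter χ.2) w
    rw [hz, Complex.norm_intCast, hval] at h1
    have h3 : ((|z| : ℤ) : ℝ) ≤ (((d : ℤ) : ℤ) : ℝ) := by push_cast; simpa using h1
    have h2 : |z| ≤ (d : ℤ) := by exact_mod_cast h3
    rw [Int.abs_eq_natAbs] at h2
    omega
  have hzne : z ≠ d := fun e1 => norm_ne_deg hna hne (t := w) (fun e2 => by
    rw [e2, orderOf_one] at hw; omega) (by rw [hz, e1, hd]; simp)
  have hd6 : d = 6 ∧ z = -1 := by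
    rcases hd' with rfl | rfl <;> omega
  obtain ⟨rfl, rfl⟩ := hd6
  -- the twisted sum
  obtain ⟨v, hv, h4, hlt⟩ := invol_value hna hne ht
  rw [hd] at h4 hlt
  have hsum0 : ∑ x : W, (χ : G → ℂ) (x : G) = 0 := by rw [hsum]; norm_num
  obtain ⟨n', ρ, hρ⟩ := irr_isCharacter χ.2
  rw [← hρ] at hsum0
  have h2 := sum_rep_eq_zero ρ W hsum0 t
  rw [hρ, ← Finset.add_sum_erase _ _ (Finset.mem_univ (1 : W)), OneMemClass.coe_one, mul_one, hv,
    Finset.sum_congr rfl (g := fun _ => (u : ℂ)) fun x hx => by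
      obtain ⟨k, hk, hk2, hk'⟩ := hgen x (Finset.ne_of_mem_erase hx)
      have htk : t ^ k = t := by
        rw [← pow_mod_orderOf, ht, hk2, pow_one]
      rw [hk']
      conv_lhs => rw [← htk, ← hc.mul_pow]
      rw [hfix k (by rwa [hN]), hu],
    Finset.sum_const, Finset.card_erase_of_mem (Finset.mem_univ _), Finset.card_univ,
    ← Nat.card_eq_fintype_card, hcard, nsmul_eq_mul] at h2
  have h6 : v + 6 * u = 0 := by
    have : ((v + 6 * u : ℤ) : ℂ) = ((0 : ℤ) : ℂ) := by push_cast; simpa using h2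
    exact_mod_cast this
  omega

theorem pairs_3360_five : ∀ n ∈ OrderSieve.adm 5 672, ∀ e < 5,
    e ≠ 1 → 4 % e = 0 → 672 % (n * e) = 0 → OrderSieve.small 3360 n = true ∨
      OrderSearch.checkPair 5 672 n e = true ∨ (n = 336 ∧ e = 2) := by decide +kernel

theorem pairs_3360_seven : ∀ n ∈ OrderSieve.adm 7 480, ∀ e < 7,
    e ≠ 1 → 6 % e = 0 → 480 % (n * e) = 0 → OrderSieve.small 3360 n = true ∨
      OrderSearch.checkPair 7 480 n e = true ∨ (n * e * 7 ∣ 3360 ∧ 2 ∣ 3360 / (n * e)) := by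
  decide +kernel

theorem check_3360 :
    DegreeSearch.checkWith 3360 5 336 2 (fun d => decide (d ≠ 4 ∧ d ≠ 6)) = true := by
  decide +kernel

omit [Fintype G] in
theorem card_ne_3360 [Finite G] [IsSimpleGroup G] (hna : ¬ IsMulCommutative G) :
    Nat.card G ≠ 3360 := by
  intro hN
  haveI := Fintype.ofFinite G
  haveI : Fact (Nat.Prime 5) := ⟨by norm_num⟩
  haveI : Fact (Nat.Prime 7) := ⟨by norm_num⟩
  have hG : Nat.card G = 5 * 672 := hN
  have hG7 : Nat.card G = 7 * 480 := hN
  obtain ⟨P, e, hP, ⟨hn1, hn2, hn3⟩, he, he1, he2, he3⟩ :=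
    sylow_data hG (by norm_num : ¬ 5 ∣ 672) (by norm_num)
  obtain ⟨Q, f, hQ, ⟨hm1, hm2, hm3⟩, hf, hf1, hf2, hf3⟩ :=
    sylow_data hG7 (by norm_num : ¬ 7 ∣ 480) (by norm_num)
  have hele : e ≤ 4 := Nat.le_of_dvd (by norm_num) he1
  have hfle : f ≤ 6 := Nat.le_of_dvd (by norm_num) hf1
  have hmem : Nat.card (Sylow 5 G) ∈ OrderSieve.adm 5 672 := by
    simp only [OrderSieve.adm, List.mem_filter, decide_eq_true_eq]
    exact ⟨DegreeSearch.mem_divs (by norm_num) hn1, hn2, hn3⟩
  have hmem7 : Nat.card (Sylow 7 G) ∈ OrderSieve.adm 7 480 := by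
    simp only [OrderSieve.adm, List.mem_filter, decide_eq_true_eq]
    exact ⟨DegreeSearch.mem_divs (by norm_num) hm1, hm2, hm3⟩
  rcases pairs_3360_seven _ hmem7 f (by omega) hf2 (Nat.mod_eq_zero_of_dvd hf1)
    (Nat.mod_eq_zero_of_dvd hf3) with h | h | ⟨-, hC2⟩
  · have hidx : (Subgroup.normalizer ((Q : Subgroup G) : Set G)).index = Nat.card (Sylow 7 G) :=
      (Sylow.card_eq_index_normalizer Q).symm
    refine OrderSieve.false_of_small hna (Subgroup.normalizer ((Q : Subgroup G) : Set G))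
      (fun e1 => hm3 (by rw [← hidx, e1, Subgroup.index_top])) ?_
    rw [hN, hidx]; exact h
  · exact OrderSearch.false_of_checkPair hna (by norm_num) Q hQ hf hf1 hf2 hG7 (by norm_num)
      (by norm_num) rfl h
  rcases pairs_3360_five _ hmem e (by omega) he2 (Nat.mod_eq_zero_of_dvd he1)
    (Nat.mod_eq_zero_of_dvd he3) with h | h | ⟨hn, hee⟩
  · have hidx : (Subgroup.normalizer ((P : Subgroup G) : Set G)).index = Nat.card (Sylow 5 G) :=
      (Sylow.card_eq_index_normalizer P).symm
    refine OrderSieve.false_of_small hna (Subgroup.normalizer ((P : Subgroup G) : Set G))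
      (fun e1 => hn3 (by rw [← hidx, e1, Subgroup.index_top])) ?_
    rw [hN, hidx]; exact h
  · exact OrderSearch.false_of_checkPair hna (by norm_num) P hP he he1 he2 hG (by norm_num)
      (by norm_num) rfl h
  subst hee
  have hC := Order5040.card_centralizer P he
  rw [hn, hN] at hC
  -- an involution centralising an element of order 7
  have hC7 := Order5040.card_centralizer Q hf
  have hC7' : Nat.card (Subgroup.centralizer ((Q : Subgroup G) : Set G)) =
      3360 / (Nat.card (Sylow 7 G) * f) := by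
    rw [← hN, ← hC7, mul_comm _ f, ← mul_assoc, Nat.mul_div_cancel_left]
    exact Nat.mul_pos Nat.card_pos (Nat.pos_of_ne_zero fun e1 => by subst e1; simp at hf1)
  haveI : Fact (Nat.Prime 2) := ⟨Nat.prime_two⟩
  obtain ⟨t, ht⟩ := exists_prime_orderOf_dvd_card' 2 (hC7'.symm ▸ hC2)
  obtain ⟨w, hw⟩ := exists_prime_orderOf_dvd_card' 7
    (show 7 ∣ Nat.card (Q : Subgroup G) by rw [show Nat.card (Q : Subgroup G) = 7 from hQ])
  have htw : Commute (t : G) (w : G) := (Subgroup.mem_centralizer_iff.mp t.2 (w : G) w.2).symm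
  refine DegreeSearch.false_of_checkWith hna (by norm_num) P hP he he1 he2 hN hn _
    (fun χ hχ => decide_eq_true ?_) check_3360
  classical
  obtain ⟨M, X, Y, a, δ, h, -, hdvd⟩ := exists_data P hP he (by omega)
  have key : ∀ d, d = 4 ∨ d = 6 → charDegree (χ : G → ℂ) ≠ d := by
    intro d hd' hd
    have hX : ∀ ψ : IrrCharacter G, charDegree (ψ : G → ℂ) = d → ψ ∈ X := by
      intro ψ hψ
      by_contra hX
      by_cases hY : ψ ∈ Y
      · have h1 := h.congrY ψ hY
        rw [hψ] at h1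
        rcases h.sign with e | e <;> rw [e] at h1 <;> rcases hd' with rfl | rfl <;>
          exact absurd h1 (by decide)
      · have := hdvd ψ hX hY
        rw [hψ] at this
        rcases hd' with rfl | rfl <;> norm_num at this
    have hone : oneChar ∈ X := by
      obtain ⟨y, hy⟩ := nonOne_nonempty P hP
      by_contra hX1
      by_cases hY : (oneChar : IrrCharacter G) ∈ Y
      · have h1 := h.congrY _ hY
        rw [charDegree_oneChar] at h1
        rcases h.sign with e | e <;> rw [e] at h1 <;> exact absurd h1 (by decide)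
      · have := hdvd _ hX1 hY
        rw [charDegree_oneChar] at this
        norm_num at this
    have hmemX : ∀ ψ : IrrCharacter G, charDegree (ψ : G → ℂ) = d → ψ ∈ X.erase oneChar :=
      fun ψ hψ => Finset.mem_erase.mpr ⟨fun e => by
        rw [e, charDegree_oneChar] at hψ; omega, hX ψ hψ⟩
    have hfix : ∀ k : ℕ, k.Coprime (Nat.card G) → ∀ g,
        (χ : G → ℂ) (g ^ k) = (χ : G → ℂ) g := by
      intro k hk g
      have h2 : galConj χ hk = χ :=
        Finset.card_le_one.mp (by rw [Finset.card_erase_of_mem hone, h.cardX])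
          _ (hmemX _ ((charDegree_galConj χ hk).trans hd)) _ (hmemX χ hd)
      exact congrFun (congrArg Subtype.val h2) g
    exact false_of_rational hna hN hχ hd hd' hfix (w := (w : G)) (t := (t : G))
      (by rw [Subgroup.orderOf_coe, hw]) (by rw [Subgroup.orderOf_coe, ht]) htw
  exact ⟨key 4 (Or.inl rfl), key 6 (Or.inr rfl)⟩

end Cfsg.Agent.Char.SmallOrderGraph
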