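import Cfsg.Agent.Lib.Char.SmallOrderGraph.FiveSquare
import Cfsg.Agent.Lib.Char.SmallOrderGraph.NoThirteenFortyFour
import Cfsg.Agent.Lib.Char.SmallOrderGraph.NoThirtyThreeSixty
import Cfsg.Agent.S0496
import Cfsg.Agent.S0983

/-!
# The orders of the nonabelian simple groups of order less than 6000
-/

set_option autoImplicit false

namespace Cfsg.Agent.Char.SmallOrderGraph

open Cfsg Cfsg.Agent.Small

universe u

variable {G : Type u} [Group G] [Finite G]

/-- The orders of the simple groups below 6000. -/
def orders : List ℕ := [60, 168, 360, 504, 660, 1092, 2448, 2520, 3420, 4080, 5616]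

theorem sieve : ∀ k < 2548, k + 1093 ∈ orders ∨ k + 1093 ∈ [1344, 1512, 1800, 2700, 3360, 3600] ∨
    OrderSieve.kill (k + 1093) = true := by decide +kernel

theorem card_mem_orders [IsSimpleGroup G] (hna : ¬ IsMulCommutative G) (h : Nat.card G < 6000) :
    Nat.card G ∈ orders := by
  rcases le_or_gt (Nat.card G) 1092 with h1 | h1
  · rcases S0496.result hna h1 with e | e | e | e | e | e <;> simp [orders, e]
  rcases Nat.lt_or_ge 3640 (Nat.card G) with h2 | h2
  · rcases S0983.result hna h2 (by omega) with e | e | e | e <;>
      first | (simp [orders, e]; done) | omega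
  have hk := OrderSieve.kill_eq_false hna (by omega)
  have e1 := fun m (hm : m ∈ fiveList) => card_ne_five hna hm
  rcases sieve (Nat.card G - 1093) (by omega) with e | e | e <;>
    rw [Nat.sub_add_cancel (by omega)] at e
  · exact e
  · simp only [List.mem_cons, List.not_mem_nil, or_false] at e
    rcases e with e | e | e | e | e | e
    · exact absurd e (card_ne_1344 hna)
    · exact absurd e (card_ne_1512 hna)
    · exact absurd e (e1 72 (by decide))
    · exact absurd e (e1 108 (by decide))
    · exact absurd e (card_ne_3360 hna)
    · exact absurd e (e1 144 (by decide))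
  · rw [hk] at e
    exact absurd e (by decide)

end Cfsg.Agent.Char.SmallOrderGraph
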