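import Cfsg.Agent.Lib.Char.SmallOrderGraph.Invol
import Cfsg.Agent.Lib.Char.GaloisConj
import Cfsg.Agent.Lib.Char.Galois

/-!
# The principal block of a self-centralising Sylow subgroup of prime order, and rational values
-/

set_option autoImplicit false

namespace Cfsg.Agent.Char.SmallOrderGraph

open Cfsg Cfsg.Agent.Char Cfsg.Agent.Lead.BlockDeg Cfsg.Agent.Small.Order459648
open scoped ComplexConjugate

universe u

variable {G : Type u} [Group G] [Fintype G]

/-- A value fixed by all coprime powers is an integer. -/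
theorem int_of_pow_fixed {χ : G → ℂ} (h : IsCharacter G χ) {g : G}
    (hfix : ∀ k : ℕ, k.Coprime (Nat.card G) → χ (g ^ k) = χ g) : ∃ z : ℤ, χ g = z := by
  obtain ⟨hm, hφ⟩ := char_galois h g
  obtain ⟨q, hq⟩ := exists_rat_of_fixed Nat.card_pos.ne' hm fun φ => by
    obtain ⟨k, hk, hμ⟩ := exists_power_of_embedding Nat.card_pos.ne' φ
    rw [hφ φ k hμ, hfix k hk]
  obtain ⟨z, hz⟩ := isIntegral_rat_cast_imp (hq ▸ char_isIntegral h g)
  exact ⟨z, by rw [hq, ← hz, Rat.cast_intCast]⟩

/-- The Galois conjugate of an irreducible character. -/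
noncomputable def galConj (χ : IrrCharacter G) {k : ℕ} (hk : k.Coprime (Nat.card G)) :
    IrrCharacter G :=
  ⟨_, isIrrCharacter_pow χ.2 hk⟩

theorem galConj_apply (χ : IrrCharacter G) {k : ℕ} (hk : k.Coprime (Nat.card G)) (g : G) :
    (galConj χ hk : G → ℂ) g = (χ : G → ℂ) (g ^ k) := rfl

theorem charDegree_galConj (χ : IrrCharacter G) {k : ℕ} (hk : k.Coprime (Nat.card G)) :
    charDegree (galConj χ hk : G → ℂ) = charDegree (χ : G → ℂ) := by
  have h := char_one_eq_deg (irr_isCharacter (galConj χ hk).2)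
  rw [galConj_apply, one_pow, char_one_eq_deg (irr_isCharacter χ.2)] at h
  exact_mod_cast h.symm

variable {p : ℕ} [Fact p.Prime]

theorem pow_mem_nonOne {P : Sylow p G} (hP : Nat.card P = p) {y : ↥(P : Subgroup G)}
    (hy : y ∈ nonOne P) {k : ℕ} (hk : k.Coprime (Nat.card G)) : y ^ k ∈ nonOne P := by
  refine mem_nonOne.mpr fun e => mem_nonOne.mp hy ?_
  rw [SubmonoidClass.coe_pow] at e
  have h1 := orderOf_dvd_of_pow_eq_one e
  have h2 : orderOf (y : G) ∣ Nat.card G := orderOf_dvd_natCard _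
  exact orderOf_eq_one_iff.1 (Nat.eq_one_of_dvd_coprimes hk h1 h2)

/-- The principal block with the vanishing of the other characters. -/
theorem exists_data (P : Sylow p G) (hP : Nat.card P = p) {e : ℕ}
    (he : (Subgroup.centralizer ((P : Subgroup G) : Set G)).relIndex
      (Subgroup.normalizer ((P : Subgroup G) : Set G)) = e)
    (hC : Nat.card (Subgroup.centralizer ((P : Subgroup G) : Set G)) = p) :
    ∃ (M : Ideal AlgInt) (X Y : Finset (IrrCharacter G)) (a : IrrCharacter G → ℤ) (δ : ℤ),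
      PrimePrincipal M P e X Y a δ ∧
      (∀ χ : IrrCharacter G, χ ∉ X → χ ∉ Y → ∀ y ∈ nonOne P, (χ : G → ℂ) (y : G) = 0) ∧
      (∀ χ : IrrCharacter G, χ ∉ X → χ ∉ Y → p ∣ charDegree (χ : G → ℂ)) := by
  classical
  have hp : p.Prime := Fact.out
  obtain ⟨M, hM⟩ := exists_pModular hp
  obtain ⟨X, Y, a, δ, h⟩ := exists_prime_principal hM hP he
  have hfrob : FrobSylow P e := he ▸ frobSylow_of_prime hP
  have hC' : Subgroup.centralizer ((P : Subgroup G) : Set G) = (P : Subgroup G) := by
    refine (Subgroup.eq_of_le_of_card_ge ?_ (le_of_eq (hC.trans hP.symm))).symm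
    intro g hg
    rw [Subgroup.mem_centralizer_iff]
    intro b hb
    haveI : IsCyclic ↥(P : Subgroup G) := isCyclic_of_prime_card hP
    exact congrArg Subtype.val (IsCyclic.commutative.is_comm.comm
      (⟨b, hb⟩ : ↥(P : Subgroup G)) ⟨g, hg⟩)
  have hvan : ∀ χ : IrrCharacter G, χ ∉ X → χ ∉ Y → ∀ y ∈ nonOne P,
      (χ : G → ℂ) (y : G) = 0 := by
    intro χ hX hY y hy
    have hy1 : (y : G) ≠ 1 := mem_nonOne.mp hy
    have hCy : Subgroup.centralizer ({(y : G)} : Set G) = (P : Subgroup G) := by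
      rw [← centralizer_zpowers_eq, eq_zpowers_of_prime_sylow hP y.2 hy1, hC']
    have hχ : χ ∉ principalBlock M G := fun h' => by
      rcases (h.mem_iff χ).mp h' with h'' | h''
      · exact hX h''
      · exact hY h''
    have h0 := hfrob.nonprincipal_sum_zero hM hχ hy1
    rw [Finset.sum_eq_single (1 : Subgroup.centralizer ({(y : G)} : Set G))] at h0
    · simpa using h0
    · intro v hv hv1
      exfalso
      have hvP : (v : G) ∈ (P : Subgroup G) := (SetLike.ext_iff.mp hCy _).mp v.2
      have h2 := (P : Subgroup G).orderOf_dvd_natCard hvP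
      rw [show Nat.card (P : Subgroup G) = p from hP] at h2
      have h3 : orderOf (v : G) = p :=
        ((Nat.dvd_prime hp).mp h2).resolve_left
          fun h4 => hv1 (Subtype.ext (orderOf_eq_one_iff.mp h4))
      rw [Subgroup.orderOf_coe] at h3
      exact (Finset.mem_filter.mp hv).2 (dvd_of_eq h3.symm)
    · intro h1
      exact absurd (Finset.mem_filter.mpr ⟨Finset.mem_univ _, by simp [hp.ne_one]⟩) h1
  refine ⟨M, X, Y, a, δ, h, hvan, fun χ hX hY => ?_⟩
  obtain ⟨n, hn⟩ := exists_sum_on_sylow (P := P) χ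
  rw [Finset.sum_eq_single (1 : ↥(P : Subgroup G))] at hn
  · rw [OneMemClass.coe_one, char_one_eq_deg (irr_isCharacter χ.2), hP] at hn
    exact ⟨n, by exact_mod_cast hn⟩
  · exact fun y _ hy => hvan χ hX hY y (mem_nonOne.mpr fun e1 => hy (Subtype.ext e1))
  · exact fun h1 => absurd (Finset.mem_univ _) h1

/-- An element of a prime Sylow subgroup other than the identity. -/
theorem nonOne_nonempty (P : Sylow p G) (hP : Nat.card P = p) :
    ∃ y : ↥(P : Subgroup G), y ∈ nonOne P := by
  have : Nontrivial ↥(P : Subgroup G) := by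
    rw [← Finite.one_lt_card_iff_nontrivial, show Nat.card ↥(P : Subgroup G) = p from hP]
    exact (Fact.out : p.Prime).one_lt
  obtain ⟨y, hy⟩ := exists_ne (1 : ↥(P : Subgroup G))
  exact ⟨y, mem_nonOne.mpr fun e1 => hy (Subtype.ext e1)⟩

end Cfsg.Agent.Char.SmallOrderGraph
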