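import Cfsg.Agent.Lib.Small.OrderSieve

/-!
# Groups of small order with two Sylow 5-subgroups of order 25 sharing a subgroup of order 5
-/

set_option autoImplicit false

namespace Cfsg.Agent.Char.SmallOrderGraph

open Subgroup Cfsg.Agent.Small

universe u

variable {G : Type u} [Group G] [Finite G]

/-- An action on a group of prime order by a group of coprime order is trivial. -/
theorem le_centralizer_of_coprime (X Y : Subgroup G) {q : ℕ} (hq : q.Prime) (hX : Nat.card X = q)
    (hY : Y ≤ normalizer (X : Set G)) (h : (Nat.card Y).Coprime (q - 1)) :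
    Y ≤ centralizer (X : Set G) := by
  haveI : Fact q.Prime := ⟨hq⟩
  haveI : IsCyclic X := isCyclic_of_prime_card hX
  intro x hx
  let f : Y →* MulAut X := X.normalizerMonoidHom.comp (inclusion hY)
  have h1 : orderOf (f ⟨x, hx⟩) ∣ Nat.card Y :=
    (orderOf_map_dvd _ _).trans (_root_.orderOf_dvd_natCard _)
  have h2 : orderOf (f ⟨x, hx⟩) ∣ q - 1 := by
    refine (_root_.orderOf_dvd_natCard _).trans ?_
    rw [IsCyclic.card_mulAut, hX, Nat.totient_prime hq]
  have h3 := Nat.dvd_gcd h1 h2
  rw [h.gcd_eq_one, Nat.dvd_one, orderOf_eq_one_iff] at h3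
  have h4 : inclusion hY ⟨x, hx⟩ ∈ X.normalizerMonoidHom.ker := h3
  rw [normalizerMonoidHom_ker] at h4
  exact h4

/-- The index of the centralizer inside the normalizer of a subgroup of prime order. -/
theorem relIndex_centralizer_dvd (X H : Subgroup G) {q : ℕ} (hq : q.Prime) (hX : Nat.card X = q)
    (hH : H ≤ normalizer (X : Set G)) : (centralizer (X : Set G)).relIndex H ∣ q - 1 := by
  haveI : Fact q.Prime := ⟨hq⟩
  haveI : IsCyclic X := isCyclic_of_prime_card hX
  let f : H →* MulAut X := X.normalizerMonoidHom.comp (inclusion hH)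
  have hk : f.ker = (centralizer (X : Set G)).subgroupOf H := by
    ext x
    have h1 := SetLike.ext_iff.mp (normalizerMonoidHom_ker (H := X)) (inclusion hH x)
    simpa [f, mem_subgroupOf, MonoidHom.mem_ker] using h1
  rw [relIndex, ← hk, index_ker]
  refine (Subgroup.card_subgroup_dvd_card _).trans ?_
  rw [IsCyclic.card_mulAut, hX, Nat.totient_prime hq]

variable [Fact (Nat.Prime 5)]

/-- A group containing two given Sylow subgroups has another Sylow number than one. -/
theorem exists_sylow_num (P Q : Sylow 5 G) (hne : P ≠ Q) (K : Subgroup G)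
    (hP : (P : Subgroup G) ≤ K) (hQ : (Q : Subgroup G) ≤ K) (hP25 : Nat.card P = 25) {j : ℕ}
    (hK : Nat.card K = 25 * j) :
    Nat.card (Sylow 5 K) ∣ j ∧ Nat.card (Sylow 5 K) % 5 = 1 ∧ Nat.card (Sylow 5 K) ≠ 1 := by
  refine ⟨?_, by rw [card_sylow_modEq_one 5 K], fun h1 => ?_⟩
  · have h3 := ((P.subtype hP : Sylow 5 K) : Subgroup K).card_mul_index
    rw [Sylow.coe_subtype, Nat.card_congr (subgroupOfEquivOfLe hP).toEquiv,
      show Nat.card (P : Subgroup G) = 25 from hP25, hK] at h3
    have h4 := (P.subtype hP).card_dvd_index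
    rw [Sylow.coe_subtype] at h4
    rwa [Nat.eq_of_mul_eq_mul_left (by norm_num) h3] at h4
  · haveI := (Nat.card_eq_one_iff_unique.mp h1).1
    exact hne (Sylow.subtype_injective (hP := hP) (hQ := hQ) (Subsingleton.elim _ _))

omit [Fact (Nat.Prime 5)] in
theorem exists_index_two {H : Type*} [Group H] [Finite H] {m : ℕ} (hm : Odd m)
    (hH : Nat.card H = 2 * m) : ∃ K : Subgroup H, Nat.card K = m := by
  classical
  haveI := Fintype.ofFinite H
  obtain ⟨t, ht⟩ := exists_prime_orderOf_dvd_card' 2 (hH ▸ Dvd.intro m rfl)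
  let ρ : H →* Equiv.Perm H := MulAction.toPermHom H H
  have hρo : orderOf (ρ t) = 2 := by
    rw [orderOf_injective ρ MulAction.toPerm_injective, ht]
  obtain ⟨k, hk⟩ := Equiv.Perm.cycleType_prime_order (σ := ρ t) (by rw [hρo]; exact Nat.prime_two)
  have hsupp : (ρ t).support = Finset.univ := by
    refine Finset.eq_univ_iff_forall.2 fun h => Equiv.Perm.mem_support.2 fun he => ?_
    have h1 : t = 1 := mul_eq_right.1 (show t * h = h from he)
    rw [h1, orderOf_one] at ht
    omega
  have hk1 : k + 1 = m := by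
    have h1 := Equiv.Perm.sum_cycleType (ρ t)
    rw [hk, hρo, hsupp, Finset.card_univ, ← Nat.card_eq_fintype_card, hH, Multiset.sum_replicate,
      smul_eq_mul] at h1
    omega
  have hsign : Equiv.Perm.sign (ρ t) = -1 := by
    rw [Equiv.Perm.sign_of_cycleType, hk, hρo, hk1, Multiset.sum_replicate, Multiset.card_replicate,
      smul_eq_mul]
    exact Odd.neg_one_pow (by obtain ⟨c, rfl⟩ := hm; exact ⟨3 * c + 1, by ring⟩)
  let φ : H →* ℤˣ := Equiv.Perm.sign.comp ρ
  have hr : φ.range = ⊤ := by
    refine eq_top_iff.2 fun u _ => ?_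
    rcases Int.units_eq_one_or u with rfl | rfl
    · exact one_mem _
    · exact ⟨t, hsign⟩
  refine ⟨φ.ker, ?_⟩
  have h1 := Subgroup.card_mul_index φ.ker
  rw [Subgroup.index_ker, hr, Subgroup.card_top, Nat.card_eq_fintype_card (α := ℤˣ),
    Fintype.card_units_int, hH, mul_comm 2] at h1
  exact Nat.eq_of_mul_eq_mul_right two_pos h1

/-- A subgroup of order 75 or 150 contains only one Sylow 5-subgroup. -/
theorem false_of_small_local (P Q : Sylow 5 G) (hne : P ≠ Q) (K : Subgroup G)
    (hP : (P : Subgroup G) ≤ K) (hQ : (Q : Subgroup G) ≤ K) (hP25 : Nat.card P = 25)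
    (hK : Nat.card K = 25 * 3 ∨ Nat.card K = 25 * 6) : False := by
  have small : ∀ L : Subgroup G, (P : Subgroup G) ≤ L → (Q : Subgroup G) ≤ L →
      Nat.card L = 25 * 3 → False := by
    intro L h1 h2 h3
    obtain ⟨a, b, c⟩ := exists_sylow_num P Q hne L h1 h2 hP25 h3
    have := Nat.le_of_dvd (by norm_num) a
    omega
  rcases hK with hK | hK
  · exact small K hP hQ hK
  obtain ⟨L, hL⟩ := exists_index_two (H := K) (m := 75) ⟨37, rfl⟩ (by rw [hK])
  have hidx : L.index = 2 := by
    have := L.card_mul_index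
    rw [hL, hK] at this
    omega
  have key : ∀ R : Sylow 5 G, (R : Subgroup G) ≤ K → Nat.card R = 25 →
      (R : Subgroup G) ≤ L.map K.subtype := by
    intro R hR hR25 x hx
    refine ⟨⟨x, hR hx⟩, ?_, rfl⟩
    have h1 := sq_mem_of_index_two hidx ((⟨x, hR hx⟩ : K) ^ 13)
    rw [← pow_mul] at h1
    have h2 : (⟨x, hR hx⟩ : K) ^ (13 * 2) = ⟨x, hR hx⟩ := by
      apply Subtype.ext
      have h3 := (R : Subgroup G).orderOf_dvd_natCard hx
      rw [show Nat.card (R : Subgroup G) = 25 from hR25] at h3
      rw [SubmonoidClass.coe_pow, show 13 * 2 = 25 + 1 from rfl, pow_succ,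
        orderOf_dvd_iff_pow_eq_one.mp h3, one_mul]
    rwa [h2] at h1
  have hQ25 : Nat.card Q = 25 := by rw [← hP25]; exact Q.card_eq_multiplicity.trans P.card_eq_multiplicity.symm
  refine small _ (key P hP hP25) (key Q hQ hQ25) ?_
  rw [card_map_of_injective K.subtype_injective, hL]

/-- In a group of order 300 no Sylow 5-subgroup is central in a normaliser of order 50. -/
theorem false_of_central_sylow {H : Subgroup G} (P : Sylow 5 G)
    (hP : (P : Subgroup G) ≤ H) (hP25 : Nat.card P = 25)
    (hH : Nat.card H = 300) (hNc : (normalizer ((P : Subgroup G) : Set G) ⊓ H : Subgroup G) ≤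
      centralizer ((P : Subgroup G) : Set G))
    (hN50 : Nat.card (normalizer ((P : Subgroup G) : Set G) ⊓ H : Subgroup G) = 50) : False := by
  classical
  haveI : Fact (Nat.Prime 3) := ⟨Nat.prime_three⟩
  set PH : Sylow 5 H := P.subtype hP with hPH
  have hmem : ∀ x : H, x ∈ normalizer ((PH : Subgroup H) : Set H) →
      (x : G) ∈ normalizer ((P : Subgroup G) : Set G) ⊓ H := by
    intro x hx
    refine ⟨?_, x.2⟩
    show (x : G) ∈ normalizer ((P : Subgroup G) : Set G)
    rw [mem_normalizer_iff]
    intro g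
    constructor
    · intro hg
      exact (mem_normalizer_iff.mp hx ⟨g, hP hg⟩).mp hg
    · intro hg
      have hgH : g ∈ H := by
        have e : g = (x : G)⁻¹ * ((x : G) * g * (x : G)⁻¹) * (x : G) := by group
        rw [e]
        exact mul_mem (mul_mem (inv_mem x.2) (hP hg)) x.2
      exact (mem_normalizer_iff.mp hx ⟨g, hgH⟩).mpr hg
  have hle : normalizer ((PH : Subgroup H) : Set H) ≤ centralizer ((PH : Subgroup H) : Set H) := by
    intro x hx
    rw [mem_centralizer_iff]
    intro y hy
    exact Subtype.ext (mem_centralizer_iff.mp (hNc (hmem x hx)) (y : G) hy)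
  set K := (MonoidHom.transferSylow PH hle).ker with hK
  have hK12 : Nat.card K = 12 := by
    have h1 := (MonoidHom.ker_transferSylow_isComplement' PH hle).card_mul
    have h2 : Nat.card (PH : Subgroup H) = 25 :=
      (Nat.card_congr (subgroupOfEquivOfLe hP).toEquiv).trans hP25
    rw [show Nat.card (PH : Subgroup H) = 25 from h2, hH] at h1
    rw [hK]
    omega
  obtain ⟨R⟩ := (inferInstance : Nonempty (Sylow 3 K))
  have hR3 : Nat.card R = 3 := by
    rw [SmallOrders.sylow_card_eq (m := 4) (k := 1) (by rw [hK12]; rfl) (by norm_num) R, pow_one]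
  set R' : Subgroup H := (R : Subgroup K).map K.subtype with hR'
  have hR'3 : Nat.card R' = 3 := by
    rw [hR', card_map_of_injective K.subtype_injective]; exact hR3
  have hsup : normalizer (R' : Set H) ⊔ K = ⊤ := Sylow.normalizer_sup_eq_top R
  have h25 : 25 ∣ Nat.card (normalizer (R' : Set H)) := by
    have h1 := relIndex_sup_right (normalizer (R' : Set H)) K
    rw [hsup, relIndex_top_right] at h1
    have h2 := K.card_mul_index
    rw [hK12, hH] at h2
    have h3 : K.relIndex (normalizer (R' : Set H)) ∣ Nat.card (normalizer (R' : Set H)) :=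
      Subgroup.index_dvd_card _
    rw [← h1] at h3
    rwa [show K.index = 25 by omega] at h3
  obtain ⟨S⟩ := (inferInstance : Nonempty (Sylow 5 (normalizer (R' : Set H) : Subgroup H)))
  set S' : Subgroup H := (S : Subgroup _).map (normalizer (R' : Set H)).subtype with hS'
  have hS25 : 25 ∣ Nat.card S' := by
    rw [hS', card_map_of_injective (Subgroup.subtype_injective _)]
    exact S.pow_dvd_card_of_pow_dvd_card (n := 2) h25
  have hS5 : IsPGroup 5 S' := S.isPGroup'.map _
  obtain ⟨T, hT⟩ := hS5.exists_le_sylow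
  have hT25 : Nat.card T = 25 :=
    (SmallOrders.sylow_card_eq (m := 12) (k := 2) (by rw [hH]; rfl) (by norm_num) T).trans (by norm_num)
  have hST : S' = (T : Subgroup H) := by
    refine eq_of_le_of_card_ge hT ?_
    rw [show Nat.card (T : Subgroup H) = 25 from hT25]
    exact Nat.le_of_dvd Nat.card_pos hS25
  have hScop : (Nat.card S').Coprime (3 - 1) := by
    rw [hST, show Nat.card (T : Subgroup H) = 25 from hT25]; norm_num
  have hSc := le_centralizer_of_coprime R' S' Nat.prime_three hR'3 (map_subtype_le _) hScop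
  obtain ⟨g, hg⟩ := MulAction.exists_smul_eq H T PH
  obtain ⟨r, hr⟩ := exists_prime_orderOf_dvd_card' 3 (show 3 ∣ Nat.card R' by rw [hR'3])
  have hrT : ∀ y ∈ (T : Subgroup H), (r : H) * y = y * r := fun y hy =>
    mem_centralizer_iff.mp (hSc (hST ▸ hy)) r r.2
  have hr' : g * (r : H) * g⁻¹ ∈ normalizer ((PH : Subgroup H) : Set H) := by
    have h1 : (r : H) ∈ normalizer ((T : Subgroup H) : Set H) := by
      refine mem_normalizer_fintype fun y hy => ?_
      rw [hrT y hy, mul_inv_cancel_right]; exact hy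
    have h2 : (r : H) • T = T := Sylow.smul_eq_iff_mem_normalizer.mpr h1
    refine Sylow.smul_eq_iff_mem_normalizer.mp ?_
    rw [← hg, smul_smul, inv_mul_cancel_right, mul_smul, h2]
  have h4 := (normalizer ((P : Subgroup G) : Set G) ⊓ H : Subgroup G).orderOf_dvd_natCard (hmem _ hr')
  rw [hN50, Subgroup.orderOf_coe, show g * (r : H) * g⁻¹ = MulAut.conj g r from rfl,
    MulEquiv.orderOf_eq, Subgroup.orderOf_coe, hr] at h4
  norm_num at h4

end Cfsg.Agent.Char.SmallOrderGraph
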