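import Cfsg.Agent.Lib.Char.SmallOrderGraph.FiveLocal

/-!
# No simple groups of orders 1800, 2700 and 3600
-/

set_option autoImplicit false

namespace Cfsg.Agent.Char.SmallOrderGraph

open Subgroup Cfsg.Agent.Small

universe u

variable {G : Type u} [Group G] [Finite G]

/-- The multiples of 25. -/
def fiveList : List ℕ := [72, 108, 144]

theorem adm_five : ∀ m ∈ fiveList, ∀ n ∈ OrderSieve.adm 5 m,
    OrderSieve.small (25 * m) n = true ∨ n = 36 ∨ n = 16 ∧ m = 144 := by decide +kernel

theorem local_five : ∀ m ∈ fiveList, ∀ j ∈ DegreeSearch.divs m,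
    OrderSieve.adm 5 j = [] ∨ OrderSieve.small (25 * m) (m / j) = true ∨ j = 6 ∨ (j = 12 ∧ m = 144) := by
  decide +kernel

theorem adm_twelve : OrderSieve.adm 5 12 = [6] := by decide +kernel

theorem card_ne_five [IsSimpleGroup G] (hna : ¬ IsMulCommutative G) {m : ℕ} (hm : m ∈ fiveList) :
    Nat.card G ≠ 25 * m := by
  intro hN
  haveI : Fact (Nat.Prime 5) := ⟨by norm_num⟩
  have h5m : ¬ 5 ∣ m := fun h => by
    simp only [fiveList, List.mem_cons, List.not_mem_nil, or_false] at hm
    rcases hm with rfl | rfl | rfl <;> norm_num at h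
  have hm0 : 1 < m := by
    simp only [fiveList, List.mem_cons, List.not_mem_nil, or_false] at hm
    rcases hm with rfl | rfl | rfl <;> norm_num
  have hG : Nat.card G = 5 ^ 2 * m := by rw [hN]; rfl
  have hcard : ∀ R : Sylow 5 G, Nat.card R = 25 := fun R => by
    rw [SmallOrders.sylow_card_eq hG h5m R]; rfl
  obtain ⟨P⟩ := (inferInstance : Nonempty (Sylow 5 G))
  obtain ⟨hn1, hn2, hn3⟩ := SmallOrders.sylow_number P (hcard P) two_pos hG hm0
  have hn : Nat.card (Sylow 5 G) = 36 ∨ Nat.card (Sylow 5 G) = 16 ∧ m = 144 := by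
    have hmem : Nat.card (Sylow 5 G) ∈ OrderSieve.adm 5 m := by
      simp only [OrderSieve.adm, List.mem_filter, decide_eq_true_eq]
      exact ⟨DegreeSearch.mem_divs (by omega) hn1, hn2, hn3⟩
    refine (adm_five m hm _ hmem).resolve_left fun h => ?_
    have hidx : (normalizer ((P : Subgroup G) : Set G)).index = Nat.card (Sylow 5 G) :=
      (Sylow.card_eq_index_normalizer P).symm
    refine OrderSieve.false_of_small hna (normalizer ((P : Subgroup G) : Set G))
      (fun e1 => hn3 (by rw [← hidx, e1, index_top])) ?_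
    rw [hN, hidx]; exact h
  have hmod : Nat.card (Sylow 5 G) % 5 ^ 2 ≠ 1 := by
    rcases hn with h | ⟨h, -⟩ <;> rw [h] <;> norm_num
  obtain ⟨Q, hQP, hidx⟩ := OrderSieve.exists_inter (k := 2) (fun R => hcard R) hmod P
  set X := (P : Subgroup G) ⊓ (Q : Subgroup G)
  have hX5 : Nat.card X = 5 := by
    have h0 := (X.subgroupOf (P : Subgroup G)).card_mul_index
    rw [Nat.card_congr (subgroupOfEquivOfLe (inf_le_left : X ≤ P)).toEquiv,
      show (X.subgroupOf (P : Subgroup G)).index = 5 from hidx,
      show Nat.card (P : Subgroup G) = 25 from hcard P] at h0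
    exact Nat.eq_of_mul_eq_mul_right (m := 5) (by norm_num) (h0.trans (by norm_num))
  have hcomm : ∀ R : Sylow 5 G, X ≤ (R : Subgroup G) →
      (R : Subgroup G) ≤ centralizer (X : Set G) := by
    intro R hR r hr
    rw [mem_centralizer_iff]
    intro x hx
    exact congrArg Subtype.val
      (IsPGroup.commutative_of_card_eq_prime_sq (p := 5) (G := (R : Subgroup G))
        ((hcard R).trans (by norm_num)) ⟨x, hR hx⟩ ⟨r, hr⟩)
  have hPC := hcomm P inf_le_left
  have hQC := hcomm Q inf_le_right
  set H := normalizer (X : Set G) with hH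
  have hCH : centralizer (X : Set G) ≤ H := centralizer_le_normalizer _
  have hPH : (P : Subgroup G) ≤ H := hPC.trans hCH
  have hQH : (Q : Subgroup G) ≤ H := hQC.trans hCH
  have hne : H ≠ ⊤ := fun htop => by
    haveI : X.Normal := normalizer_eq_top_iff.mp htop
    rcases IsSimpleGroup.eq_bot_or_eq_top_of_normal X inferInstance with e | e
    · rw [e, card_bot] at hX5; norm_num at hX5
    · rw [e, card_top, hN] at hX5; omega
  obtain ⟨j, hj⟩ : 25 ∣ Nat.card H := by
    have := card_dvd_of_le hPH
    rwa [show Nat.card (P : Subgroup G) = 25 from hcard P] at this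
  have hjm : j * H.index = m := by
    have h2 := H.card_mul_index
    rw [hj, hN, mul_assoc] at h2
    exact Nat.eq_of_mul_eq_mul_left (by norm_num) h2
  have hj0 : 0 < j := Nat.pos_of_ne_zero (by rintro rfl; simp at hjm; omega)
  obtain ⟨hS1, hS2, hS3⟩ := exists_sylow_num P Q hQP.symm H hPH hQH (hcard P) hj
  have hmemj : Nat.card (Sylow 5 H) ∈ OrderSieve.adm 5 j := by
    simp only [OrderSieve.adm, List.mem_filter, decide_eq_true_eq]
    exact ⟨DegreeSearch.mem_divs (by omega) hS1, hS2, hS3⟩
  rcases local_five m hm j (DegreeSearch.mem_divs (by omega) ⟨_, hjm.symm⟩) with h | h | h | ⟨h, hm144⟩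
  · rw [h] at hmemj; simp at hmemj
  · refine OrderSieve.false_of_small hna H hne ?_
    rw [hN, show H.index = m / j by rw [← hjm, Nat.mul_div_cancel_left _ hj0]]
    exact h
  · exact false_of_small_local P Q hQP.symm H hPH hQH (hcard P) (Or.inr (by rw [hj, h]))
  subst h
  subst hm144
  have hH300 : Nat.card H = 300 := by rw [hj]
  -- `X` is central in `H`
  have hHC : H ≤ centralizer (X : Set G) := by
    have hd := relIndex_centralizer_dvd X H (by norm_num) hX5 le_rfl
    have h1 : Nat.card (centralizer (X : Set G) ⊓ H : Subgroup G) *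
        (centralizer (X : Set G)).relIndex H = 300 := by
      rw [← hH300, ← ((centralizer (X : Set G)).subgroupOf H).card_mul_index, relIndex,
        ← inf_subgroupOf_right, Nat.card_congr (subgroupOfEquivOfLe inf_le_right).toEquiv]
    have hle : (centralizer (X : Set G)).relIndex H ≤ 4 := Nat.le_of_dvd (by norm_num) hd
    have hpos : (centralizer (X : Set G)).relIndex H ≠ 0 := fun e => by
      rw [e, mul_zero] at h1; norm_num at h1
    by_contra hcon
    have hne1 : (centralizer (X : Set G)).relIndex H ≠ 1 := fun e => hcon (relIndex_eq_one.mp e)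
    refine false_of_small_local P Q hQP.symm (centralizer (X : Set G) ⊓ H)
      (le_inf hPC hPH) (le_inf hQC hQH) (hcard P) ?_
    generalize (centralizer (X : Set G)).relIndex H = r at hd h1 hle hpos hne1
    interval_cases r <;> omega
  set NH : Subgroup G := normalizer ((P : Subgroup G) : Set G) ⊓ H with hNH
  have hNH50 : Nat.card NH = 50 := by
    rw [adm_twelve, List.mem_singleton] at hmemj
    have h5 := SmallOrders.card_normalizer (P.subtype hPH)
    have hN' : normalizer ((((P.subtype hPH : Sylow 5 H) : Subgroup H)) : Set H) =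
        (normalizer ((P : Subgroup G) : Set G)).subgroupOf H := by
      rw [Sylow.coe_subtype]
      ext x
      rw [mem_subgroupOf, mem_normalizer_iff, mem_normalizer_iff]
      constructor
      · intro hx g
        constructor
        · intro hg
          exact (hx ⟨g, hPH hg⟩).mp hg
        · intro hg
          have hgH : g ∈ H := by
            have e : g = (x : G)⁻¹ * ((x : G) * g * (x : G)⁻¹) * (x : G) := by group
            rw [e]
            exact mul_mem (mul_mem (inv_mem x.2) (hPH hg)) x.2
          exact (hx ⟨g, hgH⟩).mpr hg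
      · intro hx g
        exact hx g.1
    rw [hN', hmemj, hH300] at h5
    have h6 : Nat.card ((normalizer ((P : Subgroup G) : Set G)).subgroupOf H) = Nat.card NH := by
      rw [← inf_subgroupOf_right]
      exact Nat.card_congr (subgroupOfEquivOfLe inf_le_right).toEquiv
    rw [h6] at h5
    omega
  by_cases hc : NH ≤ centralizer ((P : Subgroup G) : Set G)
  · exact false_of_central_sylow P hPH (hcard P) hH300 hc hNH50
  -- otherwise the fixed points of `NH` on `P` are `X`
  have hfix : (P : Subgroup G) ⊓ centralizer (NH : Set G) = X := by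
    refine (eq_of_le_of_card_ge (le_inf inf_le_left ?_) ?_).symm
    · intro x hx
      rw [mem_centralizer_iff]
      intro k hk
      exact (mem_centralizer_iff.mp (hHC (mem_inf.mp hk).2) x hx).symm
    · rw [hX5]
      have hd : Nat.card ((P : Subgroup G) ⊓ centralizer (NH : Set G) : Subgroup G) ∣ 5 ^ 2 := by
        have := card_dvd_of_le (inf_le_left : (P : Subgroup G) ⊓ centralizer (NH : Set G) ≤ _)
        rwa [show Nat.card (P : Subgroup G) = 25 from hcard P] at this
      obtain ⟨i, hi, hi'⟩ := (Nat.dvd_prime_pow (by norm_num)).mp hd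
      rw [hi']
      rcases (show i ≤ 1 ∨ i = 2 by omega) with h | h
      · calc 5 ^ i ≤ 5 ^ 1 := Nat.pow_le_pow_right (by norm_num) h
          _ = 5 := rfl
      · exfalso
        subst h
        refine hc fun k hk => ?_
        have e : (P : Subgroup G) ⊓ centralizer (NH : Set G) = (P : Subgroup G) :=
          eq_of_le_of_card_ge inf_le_left (by
            rw [hi', show Nat.card (P : Subgroup G) = 25 from hcard P]; norm_num)
        rw [mem_centralizer_iff]
        intro x hx
        have h1 : x ∈ (P : Subgroup G) ⊓ centralizer (NH : Set G) := by rw [e]; exact hx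
        exact (mem_centralizer_iff.mp (mem_inf.mp h1).2 k hk).symm
  have hnorm := SmallOrders.card_normalizer P
  rw [hN] at hnorm
  set NP := normalizer ((P : Subgroup G) : Set G) with hNP
  have hle : NH ≤ NP := inf_le_left
  have h50 : 50 ∣ Nat.card NP := hNH50 ▸ card_dvd_of_le hle
  rcases hn with hn | ⟨hn, -⟩
  swap
  · rw [hn] at hnorm
    omega
  rw [hn] at hnorm
  have hNP100 : Nat.card NP = 100 := by omega
  have hidx2 : (NH.subgroupOf NP).index = 2 := by
    have h1 := (NH.subgroupOf NP).card_mul_index
    rw [Nat.card_congr (subgroupOfEquivOfLe hle).toEquiv, hNH50, hNP100] at h1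
    omega
  haveI hnormal : (NH.subgroupOf NP).Normal := normal_of_index_eq_two hidx2
  have hall : NP ≤ H := by
    intro g hg
    refine mem_normalizer_fintype fun x hx => ?_
    rw [SetLike.mem_coe] at hx ⊢
    rw [← hfix] at hx ⊢
    refine ⟨(mem_normalizer_iff.mp hg x).mp hx.1, mem_centralizer_iff.mpr fun k hk => ?_⟩
    have hk' : g⁻¹ * k * g ∈ NH := by
      have := hnormal.conj_mem ⟨k, hle hk⟩ (by rw [mem_subgroupOf]; exact hk) ⟨g⁻¹, inv_mem hg⟩
      rw [mem_subgroupOf] at this
      simpa using this
    have h1 : (g⁻¹ * k * g) * x = x * (g⁻¹ * k * g) := mem_centralizer_iff.mp hx.2 _ hk'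
    calc k * (g * x * g⁻¹) = g * ((g⁻¹ * k * g) * x) * g⁻¹ := by group
      _ = g * (x * (g⁻¹ * k * g)) * g⁻¹ := by rw [h1]
      _ = g * x * g⁻¹ * k := by group
  have h2 : NH = NP := inf_eq_left.mpr hall
  rw [h2, hNP100] at hNH50
  norm_num at hNH50

end Cfsg.Agent.Char.SmallOrderGraph
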