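import Cfsg.Agent.Lib.Char.SmallOrderGraph.Block
import Cfsg.Agent.Lib.Small.OrderSieve
import Cfsg.Agent.Lib.Small.Order5040

/-!
# No simple group of order 1512

A character of degree 6 would vanish at an involution inverting a Sylow 7-subgroup, against perfectness.
-/

set_option autoImplicit false

namespace Cfsg.Agent.Char.SmallOrderGraph

open Cfsg Cfsg.Agent.Char Cfsg.Agent.Lead.BlockDeg Cfsg.Agent.Small.Order459648
open Cfsg.Agent.Small

universe u

variable {G : Type u} [Group G] [Fintype G]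

theorem lift_coprime : ∀ j < 7, j ≠ 0 → ∃ k < 1512, Nat.Coprime k 1512 ∧ k % 7 = j := by decide +kernel

/-- The sum over a subgroup annihilates a representation without invariants. -/
theorem sum_rep_eq_zero {n : ℕ} (ρ : Representation ℂ G (Fin n → ℂ)) (H : Subgroup G) [Fintype H]
    (h : ∑ w : H, ρ.character (w : G) = 0) (t : G) : ∑ w : H, ρ.character (t * (w : G)) = 0 := by
  set S : Module.End ℂ (Fin n → ℂ) := ∑ w : H, ρ (w : G) with hS
  set c : ℂ := (Nat.card H : ℂ) with hc
  have hc0 : c ≠ 0 := Nat.cast_ne_zero.mpr Nat.card_pos.ne'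
  have hSS : S * S = c • S := by
    rw [hS, Finset.mul_sum]
    have : ∀ v : H, (∑ w : H, ρ (w : G)) * ρ (v : G) = ∑ w : H, ρ (w : G) := fun v => by
      rw [Finset.sum_mul]
      refine Fintype.sum_equiv (Equiv.mulRight v) _ _ fun w => ?_
      rw [← map_mul]; rfl
    rw [Finset.sum_congr rfl fun v _ => this v, Finset.sum_const, Finset.card_univ, hc,
      Nat.card_eq_fintype_card, ← Nat.cast_smul_eq_nsmul ℂ]
  have hE : IsIdempotentElem (c⁻¹ • S) := by
    rw [IsIdempotentElem, smul_mul_smul_comm, hSS, smul_smul]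
    congr 1
    field_simp
  have h0 : LinearMap.trace ℂ _ (c⁻¹ • S) = 0 := by
    rw [map_smul, hS, map_sum]
    simp only [Representation.character] at h
    rw [h, smul_zero]
  have h1 := (LinearMap.IsIdempotentElem.isProj_range _ hE).trace
  rw [h0] at h1
  have h2 : LinearMap.range (c⁻¹ • S) = ⊥ := Submodule.finrank_eq_zero.mp (by exact_mod_cast h1.symm)
  rw [LinearMap.range_eq_bot, smul_eq_zero, or_iff_right (inv_ne_zero hc0)] at h2
  have h3 : ∑ w : H, ρ.character (t * (w : G)) = LinearMap.trace ℂ _ (ρ t * S) := by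
    rw [hS, Finset.mul_sum, map_sum]
    exact Finset.sum_congr rfl fun w _ => by rw [Representation.character, map_mul]
  rw [h3, h2, mul_zero, map_zero]

theorem no_deg_six [IsSimpleGroup G] (hna : ¬ IsMulCommutative G) (hN : Nat.card G = 1512)
    [Fact (Nat.Prime 7)] (P : Sylow 7 G) (hP : Nat.card P = 7)
    (he : (Subgroup.centralizer ((P : Subgroup G) : Set G)).relIndex
      (Subgroup.normalizer ((P : Subgroup G) : Set G)) = 6)
    (hC : Nat.card (Subgroup.centralizer ((P : Subgroup G) : Set G)) = 7)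
    (hNP : 2 ∣ Nat.card (Subgroup.normalizer ((P : Subgroup G) : Set G)))
    (χ : IrrCharacter G) (hne : χ ≠ oneChar) : charDegree (χ : G → ℂ) ≠ 6 := by
  classical
  intro hd
  obtain ⟨M, X, Y, a, δ, h, hvan, hdvd⟩ := exists_data P hP he hC
  have hXY : ∀ ψ : IrrCharacter G, charDegree (ψ : G → ℂ) = 6 → ψ ∉ X → ψ ∈ Y := by
    intro ψ hψ hX
    by_contra hY
    have := hdvd ψ hX hY
    rw [hψ] at this
    norm_num at this
  have hXval : ∀ ψ ∈ X, charDegree (ψ : G → ℂ) = 6 → ∀ y ∈ nonOne P, (ψ : G → ℂ) (y : G) = -1 := by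
    intro ψ hψ hψ6 y hy
    rw [h.a_val ψ hψ y hy]
    have h1 := h.a_congr ψ hψ
    rw [hψ6] at h1
    rcases h.a_sign ψ hψ with e | e <;> rw [e] at h1
    · exact absurd h1 (by decide)
    · rw [e]; norm_num
  obtain ⟨y, hy⟩ := nonOne_nonempty P hP
  have hy1 : (y : G) ≠ 1 := mem_nonOne.mp hy
  have hyo : orderOf (y : G) = 7 := by
    have h1 := (P : Subgroup G).orderOf_dvd_natCard y.2
    rw [show Nat.card (P : Subgroup G) = 7 from hP] at h1
    exact ((Nat.dvd_prime (Fact.out : Nat.Prime 7)).mp h1).resolve_left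
      fun e1 => hy1 (orderOf_eq_one_iff.mp e1)
  -- all values on `P` agree
  obtain ⟨z, hz⟩ : ∃ z : ℤ, ∀ w ∈ nonOne P, (χ : G → ℂ) (w : G) = z := by
    by_cases hX : χ ∈ X
    · exact ⟨-1, fun w hw => by rw [hXval χ hX hd w hw]; norm_num⟩
    have hY := hXY χ hd hX
    by_cases hG : ∃ (k : ℕ) (hk : k.Coprime (Nat.card G)), galConj χ hk ∈ X
    · obtain ⟨k, hk, hk'⟩ := hG
      obtain ⟨l, hl⟩ : ∃ l : ℕ, k * l ≡ 1 [MOD Nat.card G] :=
        (Nat.exists_mul_mod_eq_one_of_coprime hk (by omega)).imp fun l hl => by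
          rw [Nat.ModEq, hl.2, Nat.mod_eq_of_lt (by omega : 1 < Nat.card G)]
      have hl' : l.Coprime (Nat.card G) := by
        have h1 := hl.gcd_eq
        rw [Nat.gcd_one_left] at h1
        exact (Nat.coprime_mul_iff_left.mp (show (k * l).Coprime (Nat.card G) from h1)).2
      refine ⟨-1, fun w hw => ?_⟩
      have h1 := hXval _ hk' (by rw [charDegree_galConj]; exact hd) (w ^ l)
        (pow_mem_nonOne hP hw hl')
      rw [galConj_apply, SubmonoidClass.coe_pow, ← pow_mul, mul_comm,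
        pow_eq_pow_iff_modEq.mpr (hl.of_dvd (orderOf_dvd_natCard _)), pow_one] at h1
      rw [h1]; norm_num
    push Not at hG
    have hfix : ∀ k : ℕ, k.Coprime (Nat.card G) → ∀ g, (χ : G → ℂ) (g ^ k) = (χ : G → ℂ) g := by
      intro k hk g
      have h1 := hXY _ ((charDegree_galConj χ hk).trans hd) (hG k hk)
      have h2 : galConj χ hk = χ :=
        Finset.card_le_one.mp (by rw [h.cardY]) _ h1 _ hY
      exact congrFun (congrArg Subtype.val h2) g
    obtain ⟨z, hz⟩ := int_of_pow_fixed (irr_isCharacter χ.2) fun k hk => hfix k hk (y : G)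
    refine ⟨z, fun w hw => ?_⟩
    obtain ⟨j, hj⟩ := (Subgroup.mem_zpowers_iff (g := (y : G))).mp
      ((SetLike.ext_iff.mp (eq_zpowers_of_prime_sylow hP y.2 hy1) _).mpr w.2)
    obtain ⟨i, hi, hi'⟩ : ∃ i < 7, (w : G) = (y : G) ^ i := by
      refine ⟨(j % 7).toNat, by omega, ?_⟩
      rw [← hj, ← zpow_natCast, Int.toNat_of_nonneg (Int.emod_nonneg _ (by norm_num)),
        show (7 : ℤ) = ((orderOf (y : G) : ℕ) : ℤ) by rw [hyo]; norm_num, zpow_mod_orderOf]
    have hi0 : i ≠ 0 := fun e1 => mem_nonOne.mp hw (by rw [hi', e1, pow_zero])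
    obtain ⟨k, -, hk, hk7⟩ := lift_coprime i hi hi0
    rw [hi', pow_eq_pow_iff_modEq.mpr (show i ≡ k [MOD orderOf (y : G)] by
      rw [hyo, Nat.ModEq, hk7, Nat.mod_eq_of_lt hi]), hfix k (by rwa [hN]), hz]
  -- the value is `-1`
  obtain ⟨n, hn⟩ := exists_sum_on_sylow (P := P) χ
  rw [← Finset.add_sum_erase _ _ (Finset.mem_univ (1 : ↥(P : Subgroup G))),
    Finset.sum_congr rfl fun w hw => hz w (mem_nonOne.mpr fun e1 =>
      Finset.ne_of_mem_erase hw (Subtype.ext e1)), Finset.sum_const,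
    Finset.card_erase_of_mem (Finset.mem_univ _), Finset.card_univ, ← Nat.card_eq_fintype_card,
    show Nat.card ↥(P : Subgroup G) = 7 from hP, OneMemClass.coe_one,
    char_one_eq_deg (irr_isCharacter χ.2), show deg (χ : G → ℂ) = 6 from hd] at hn
  have hn' : (6 : ℤ) + 6 * z = 7 * n := by
    have : ((6 + 6 * z : ℤ) : ℂ) = ((7 * n : ℤ) : ℂ) := by
      push_cast
      rw [nsmul_eq_mul] at hn
      simpa using hn
    exact_mod_cast this
  have hzle : z.natAbs ≤ 6 := by
    have h1 := char_norm_le (irr_isCharacter χ.2) (y : G)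
    rw [hz y hy, Complex.norm_intCast, char_one_eq_deg (irr_isCharacter χ.2), show deg (χ : G → ℂ) = 6 from hd] at h1
    simp at h1
    have h2 : |z| ≤ (6 : ℤ) := by
      have h3 : ((|z| : ℤ) : ℝ) ≤ ((6 : ℤ) : ℝ) := by push_cast; exact h1
      exact_mod_cast h3
    rw [Int.abs_eq_natAbs] at h2
    omega
  have hzne : z ≠ 6 := fun e1 => norm_ne_deg hna hne hy1 (by
    rw [hz y hy, hd, e1]; simp)
  have hz1 : z = -1 := by omega
  subst hz1
  -- an involution inverting `P`
  obtain ⟨t', ht'⟩ := exists_prime_orderOf_dvd_card' 2 hNP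
  have htN : (t' : G) ∈ Subgroup.normalizer ((P : Subgroup G) : Set G) := t'.2
  have hto : orderOf (t' : G) = 2 := by rw [Subgroup.orderOf_coe, ht']
  have htt : (t' : G)⁻¹ = (t' : G) := by
    rw [inv_eq_iff_mul_eq_one, ← pow_two, ← hto, pow_orderOf_eq_one]
  generalize (t' : G) = t at htN hto htt
  have hty : t * (y : G) * t⁻¹ ∈ (P : Subgroup G) :=
    (Subgroup.mem_normalizer_iff.mp htN _).mp y.2
  replace hty := (SetLike.ext_iff.mp (eq_zpowers_of_prime_sylow hP y.2 hy1) _).mpr hty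
  obtain ⟨j, hj⟩ := Subgroup.mem_zpowers_iff.mp hty
  have hj2 : (y : G) ^ (j * j) = (y : G) := by
    have h1 : t * (t * (y : G) * t⁻¹) * t⁻¹ = (y : G) := by
      rw [htt, mul_assoc t, mul_assoc (t * (y : G)), ← pow_two, ← hto, pow_orderOf_eq_one, mul_one,
        ← mul_assoc, ← pow_two, ← hto, pow_orderOf_eq_one, one_mul]
    rw [← hj, ← conj_zpow, ← hj, ← zpow_mul] at h1
    exact h1
  have hinv : t * (y : G) * t⁻¹ = (y : G)⁻¹ := by
    rw [← hj]
    have h1 : ((7 : ℕ) : ℤ) ∣ j * j - 1 := by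
      rw [← hyo, orderOf_dvd_iff_zpow_eq_one, zpow_sub, hj2, zpow_one, mul_inv_cancel]
    have hp7 : Prime ((7 : ℕ) : ℤ) := Nat.prime_iff_prime_int.mp (by norm_num)
    rw [show j * j - 1 = (j - 1) * (j + 1) by ring] at h1
    rcases hp7.dvd_or_dvd h1 with h2 | h2
    · exfalso
      have hjy : t * (y : G) * t⁻¹ = (y : G) := by
        rw [← hj]
        have h3 : (y : G) ^ (j - 1) = 1 := by
          rw [← orderOf_dvd_iff_zpow_eq_one, hyo]; exact h2
        rwa [zpow_sub, zpow_one, mul_inv_eq_one] at h3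
      have htC : t ∈ Subgroup.centralizer ((P : Subgroup G) : Set G) := by
        rw [← congrArg (fun H : Subgroup G => Subgroup.centralizer (H : Set G))
          (eq_zpowers_of_prime_sylow hP y.2 hy1), centralizer_zpowers_eq,
          Subgroup.mem_centralizer_singleton_iff]
        exact mul_inv_eq_iff_eq_mul.mp hjy
      have h3 := (Subgroup.centralizer ((P : Subgroup G) : Set G)).orderOf_dvd_natCard htC
      rw [hC, hto] at h3
      norm_num at h3
    · have h3 : (y : G) ^ (j + 1) = 1 := by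
        rw [← orderOf_dvd_iff_zpow_eq_one, hyo]; exact h2
      rw [zpow_add, zpow_one] at h3
      exact eq_inv_of_mul_eq_one_left h3
  have hconj : ∀ w : ↥(P : Subgroup G), (χ : G → ℂ) (t * (w : G)) = (χ : G → ℂ) t := by
    intro w
    obtain ⟨m, hm⟩ := (Subgroup.mem_zpowers_iff (g := (y : G))).mp
      ((SetLike.ext_iff.mp (eq_zpowers_of_prime_sylow hP y.2 hy1) _).mpr w.2)
    have hv : ∀ i : ℤ, t * (y : G) ^ i * t⁻¹ = (y : G) ^ (-i) := fun i => by
      rw [← conj_zpow, hinv, inv_zpow']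
    have e1 : t * (w : G) = (y : G) ^ (3 * m) * t * ((y : G) ^ (3 * m))⁻¹ := by
      have h2 : (y : G) ^ (3 * m) * t = t * (y : G) ^ (-(3 * m)) := by
        have h3 := hv (-(3 * m))
        rw [neg_neg, mul_inv_eq_iff_eq_mul] at h3
        exact h3.symm
      rw [h2, mul_assoc, ← zpow_neg, ← zpow_add, ← hm]
      congr 1
      rw [zpow_eq_zpow_iff_modEq, hyo, Int.modEq_iff_dvd]
      exact ⟨-m, by push_cast; ring⟩
    rw [e1, isClassFunction_character (irr_isCharacter χ.2)]
  have ht0 : (χ : G → ℂ) t = 0 := by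
    have hsum : ∑ w : ↥(P : Subgroup G), (χ : G → ℂ) (w : G) = 0 := by
      rw [← Finset.add_sum_erase _ _ (Finset.mem_univ (1 : ↥(P : Subgroup G))),
        Finset.sum_congr rfl fun w hw => hz w (mem_nonOne.mpr fun e1 =>
          Finset.ne_of_mem_erase hw (Subtype.ext e1)), Finset.sum_const,
        Finset.card_erase_of_mem (Finset.mem_univ _), Finset.card_univ, ← Nat.card_eq_fintype_card,
        show Nat.card ↥(P : Subgroup G) = 7 from hP, OneMemClass.coe_one,
        char_one_eq_deg (irr_isCharacter χ.2), show deg (χ : G → ℂ) = 6 from hd]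
      norm_num
    obtain ⟨n', ρ, hρ⟩ := irr_isCharacter χ.2
    rw [← hρ] at hsum
    have h2 := sum_rep_eq_zero ρ (P : Subgroup G) hsum t
    rw [hρ, Finset.sum_congr rfl fun w _ => hconj w, Finset.sum_const, Finset.card_univ,
      ← Nat.card_eq_fintype_card, show Nat.card ↥(P : Subgroup G) = 7 from hP, nsmul_eq_mul,
      mul_eq_zero] at h2
    exact h2.resolve_left (by norm_num)
  obtain ⟨v, hv, h4, -⟩ := invol_value hna hne hto
  rw [ht0] at hv
  have : v = 0 := by exact_mod_cast hv.symm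
  rw [this, hd] at h4
  norm_num at h4

theorem pairs_1512 : ∀ n ∈ OrderSieve.adm 7 216, ∀ e < 7,
    e ≠ 1 → 6 % e = 0 → 216 % (n * e) = 0 → OrderSieve.small 1512 n = true ∨
      OrderSearch.checkPair 7 216 n e = true ∨ (n = 36 ∧ e = 6) := by decide +kernel

theorem check_1512 : DegreeSearch.checkWith 1512 7 36 6 (fun d => decide (d ≠ 6)) = true := by
  decide +kernel

omit [Fintype G] in
theorem card_ne_1512 [Finite G] [IsSimpleGroup G] (hna : ¬ IsMulCommutative G) :
    Nat.card G ≠ 1512 := by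
  intro hN
  haveI := Fintype.ofFinite G
  haveI : Fact (Nat.Prime 7) := ⟨by norm_num⟩
  have hG : Nat.card G = 7 * 216 := hN
  obtain ⟨P, e, hP, ⟨hn1, hn2, hn3⟩, he, he1, he2, he3⟩ :=
    sylow_data hG (by norm_num : ¬ 7 ∣ 216) (by norm_num)
  have hele : e ≤ 6 := Nat.le_of_dvd (by norm_num) he1
  have hmem : Nat.card (Sylow 7 G) ∈ OrderSieve.adm 7 216 := by
    simp only [OrderSieve.adm, List.mem_filter, decide_eq_true_eq]
    exact ⟨DegreeSearch.mem_divs (by norm_num) hn1, hn2, hn3⟩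
  rcases pairs_1512 _ hmem e (by omega) he2 (Nat.mod_eq_zero_of_dvd he1)
    (Nat.mod_eq_zero_of_dvd he3) with h | h | ⟨hn, hee⟩
  · have hidx : (Subgroup.normalizer ((P : Subgroup G) : Set G)).index = Nat.card (Sylow 7 G) :=
      (Sylow.card_eq_index_normalizer P).symm
    refine OrderSieve.false_of_small hna (Subgroup.normalizer ((P : Subgroup G) : Set G)) (fun e1 => hn3 (by
      rw [← hidx, e1, Subgroup.index_top])) ?_
    rw [hN, hidx]; exact h
  · exact OrderSearch.false_of_checkPair hna (by norm_num) P hP he he1 he2 hG (by norm_num)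
      (by norm_num) rfl h
  subst hee
  have hnorm := SmallOrders.card_normalizer P
  rw [hn, hN] at hnorm
  have hC := Order5040.card_centralizer P he
  rw [hn, hN] at hC
  exact DegreeSearch.false_of_checkWith hna (by norm_num) P hP he he1 he2 hN hn _
    (fun χ hχ => decide_eq_true (no_deg_six hna hN P hP he (by omega)
      (by omega) χ hχ)) check_1512

end Cfsg.Agent.Char.SmallOrderGraph
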